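import Cfsg.Agent.H65.IMC.Tools
import Cfsg.Agent.H52.FourRu
import Cfsg.Agent.H870.IMRu
import Cfsg.Agent.H852.IMSuz
import Cfsg.Agent.H94.IMCPerm

/-!
# `IMC p Ru` (helper65)
-/

set_option autoImplicit false
set_option maxRecDepth 100000

namespace Cfsg.Agent.H65.IMCRu

open Cfsg Subgroup Cfsg.Agent.H625.SylConst Cfsg.Agent.H33 Cfsg.Agent.H65.IMCTools
open Cfsg.Agent.H870.IMRu
open Cfsg.Agent.SporadicB Cfsg.Agent.RuD.Letters Cfsg.Agent.SporRec.TCUpperCert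
open Cfsg.Agent.KFacts.Ru Cfsg.Agent.KFacts.Ru.CentEng Cfsg.Agent.CpAutRuFive
open Cfsg.Agent.CpAutRuFive.Cert

universe u

/-- **`p = 5`** -/
theorem imc_five : IMC 5 RuOrder.H := by
  have := finite_H
  have : Fact (Nat.Prime 5) := ⟨by norm_num⟩
  have hr := rel_of_chk chkY
  have hY : wprod ml [5, 5] = (1 : RuOrder.H) := hr _ (by simp)
  have hB : wprod ml [0, 4, 0, 4, 0, 4] = (1 : RuOrder.H) := hr _ (by simp)
  have hYB : wprod ml [5, 0, 4, 5, 0, 4, 5, 0, 4, 5, 0, 4, 5, 0, 4] = (1 : RuOrder.H) := hr _ (by simp)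
  have e1 : wprod ml [5, 5] = (wprod ml [5] : RuOrder.H) ^ 2 := by
    rw [show ([5, 5] : List ℕ) = [5] ++ [5] from rfl, wprod_append, pow_two]
  have e2 : wprod ml [0, 4, 0, 4, 0, 4] = (wprod ml [0, 4] : RuOrder.H) ^ 3 := by
    rw [show ([0, 4, 0, 4, 0, 4] : List ℕ) = [0, 4] ++ ([0, 4] ++ [0, 4]) from rfl, wprod_append, wprod_append]
    simp only [pow_succ, pow_zero, one_mul, mul_assoc]
  have e3 : wprod ml [5, 0, 4, 5, 0, 4, 5, 0, 4, 5, 0, 4, 5, 0, 4] =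
      ((wprod ml [5] : RuOrder.H) * wprod ml [0, 4]) ^ 5 := by
    rw [show ([5, 0, 4, 5, 0, 4, 5, 0, 4, 5, 0, 4, 5, 0, 4] : List ℕ) =
      ([5] ++ [0, 4]) ++ (([5] ++ [0, 4]) ++ (([5] ++ [0, 4]) ++ (([5] ++ [0, 4]) ++ ([5] ++ [0, 4])))) from rfl]
    simp only [wprod_append]
    simp only [pow_succ, pow_zero, one_mul, mul_assoc]
  have hca := eq_of_chkEq chkCa
  have hcb := eq_of_chkEq chkCb
  rw [wprod_append, wprod_append] at hca hcb
  obtain ⟨h1, h2⟩ := im_cent_five (x := (wprod ml wB : RuOrder.H)) orderB cardB hca hcb (e1.symm.trans hY)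
    (e2.symm.trans hB) (e3.symm.trans hYB) ne_one
  refine imc_of_cent_im orderB h1 h2 ?_
  rw [SporadicB.RuOrder.card_H]
  norm_num

/-- **IMC for `Ru`.** -/
theorem imc_ru {S : Type u} [Group S] [Finite S] (h : Cfsg.Spor.IsoRu S) {p : ℕ} [hp : Fact p.Prime]
    (hd : p ∣ Nat.card S) : IMC p S := by
  have hfin := finite_H
  obtain ⟨e₀⟩ := id h
  have e := e₀.trans Cfsg.Agent.RuLat.Main.equiv
  have hcS : Nat.card S = 145926144000 := by
    rw [Nat.card_congr e.toEquiv, SporadicB.RuOrder.card_H]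
  have hm := H852.IMSuz.prime_cases' hp.out [2, 3, 5, 7, 13, 29] (by decide) 14 hd (by rw [hcS]; norm_num)
  simp only [List.mem_cons, List.not_mem_nil, or_false] at hm
  have hex : ¬ p ^ 2 ∣ Nat.card S → IMC p S := fun h2 =>
    H794.Imc.imc_of_exact hd h2 (im_ru h hd)
  rcases hm with rfl | rfl | rfl | rfl | rfl | rfl
  · exact H94.IMCLoc.imc_two_of_loc (Cfsg.Agent.H52.FourRu.loc_Ru h)
  · refine IMC.of_equiv e ?_
    obtain ⟨R, hR⟩ := H690.Spor.Ru.r3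
    exact H94.IMCPerm.imc_of_r3_chk hR (by norm_num) (Or.inl (by decide)) (by decide +kernel)
  · exact IMC.of_equiv e imc_five
  · exact hex (by rw [hcS]; norm_num)
  · exact hex (by rw [hcS]; norm_num)
  · exact hex (by rw [hcS]; norm_num)

end Cfsg.Agent.H65.IMCRu
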