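import Cfsg.Agent.H65.IMC.Tools
import Cfsg.Agent.H326.Four.RowSuz
import Cfsg.Agent.H852.IMSuz
import Cfsg.Agent.CpAutSuz.ThreeC
import Cfsg.Agent.H999.ONIMThree
import Cfsg.Agent.H94.IMCPerm

/-!
# `IMC p Suz` (helper65)
-/

set_option autoImplicit false

namespace Cfsg.Agent.H65.IMCSuz

open Cfsg Subgroup Cfsg.Agent.H625.SylConst Cfsg.Agent.H33 Cfsg.Agent.H65.IMCTools Cfsg.Agent.OrdDiv
open Cfsg.Spor Cfsg.Agent.PreUniq.Spor.SuzP

theorem card_Suz : Nat.card Suz = 448345497600 :=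
  table_spor Spor.Suz (.suz, 448345497600) (by decide +kernel) ⟨MulEquiv.refl _⟩

theorem imc_three : @IMC 3 Suz _ := by
  have := finSuz
  have hF3 : Fact (Nat.Prime 3) := ⟨Nat.prime_three⟩
  have hEp : IsPGroup 3 E := IsPGroup.iff_card.2 ⟨2, by rw [card_E]; norm_num⟩
  have hE1 : E ≠ ⊥ := by
    intro h
    have h1 := card_E
    rw [h, Subgroup.card_bot] at h1
    omega
  have hn : (E.subgroupOf (centralizer (E : Set Suz))).Normal := by
    constructor
    intro x hx g
    have h1 : (g : Suz) * x = x * g := (comm_X (g := (g : Suz)) g.2 (mem_subgroupOf.1 hx)).symm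
    have h2 : g * x * g⁻¹ = x := Subtype.ext (by
      show (g : Suz) * x * (g : Suz)⁻¹ = x
      rw [h1, mul_inv_cancel_right])
    rw [h2]; exact hx
  have hsimple : IsSimpleGroup (centralizer (E : Set Suz) ⧸ E.subgroupOf (centralizer (E : Set Suz))) := simple_X
  have hq : Nat.card (centralizer (E : Set Suz) ⧸ E.subgroupOf (centralizer (E : Set Suz))) = 360 :=
    Cfsg.Agent.CpAutSuz.ThreeC.card_quot
  refine imc_of_quot E hEp ?_ E_le_X (H999.ONIMThree.hasDZ_360 hq) ?_
  · have h1 := E.card_mul_index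
    rw [card_E, card_Suz] at h1
    have h2 : E.index = 49816166400 := by omega
    rw [h2]; norm_num
  · intro g hg hk
    obtain ⟨x, hx, hx1, hgx⟩ := exists_fixed hEp hE1 hg hk
    exact Cfsg.Agent.CpAutSuz.ThreeC.cent_x hx hx1 hgx

universe u

/-- **IMC for `Suz`.** -/
theorem imc_suz {S : Type u} [Group S] [Finite S] (h : Cfsg.Spor.IsoSuz S) {p : ℕ} [hp : Fact p.Prime]
    (hd : p ∣ Nat.card S) : IMC p S := by
  have hfin : Finite Suz := finSuz
  obtain ⟨e⟩ := id h
  have hcS : Nat.card S = 448345497600 := by rw [Nat.card_congr e.toEquiv, card_Suz]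
  have hm := H852.IMSuz.prime_cases' hp.out [2, 3, 5, 7, 11, 13] (by decide) 13 hd (by rw [hcS]; norm_num)
  simp only [List.mem_cons, List.not_mem_nil, or_false] at hm
  have hex : ¬ p ^ 2 ∣ Nat.card S → IMC p S := fun h2 =>
    H794.Imc.imc_of_exact hd h2 (H852.IMSuz.im_suz h hd)
  rcases hm with rfl | rfl | rfl | rfl | rfl | rfl
  · exact H94.IMCLoc.imc_two_of_loc (Cfsg.Agent.H326.Four.RowSuz.loc_Suz h)
  · exact IMC.of_equiv e imc_three
  · refine IMC.of_equiv e ?_
    obtain ⟨h1, h2⟩ := Cfsg.Agent.S1680.result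
    exact H94.IMCPerm.imc_of_index _ (k := 416) (l := 1365) h1 h2 (by norm_num) (by norm_num) (by norm_num)
      (by norm_num) (Or.inl (by decide)) (by decide +kernel)
  · exact hex (by rw [hcS]; norm_num)
  · exact hex (by rw [hcS]; norm_num)
  · exact hex (by rw [hcS]; norm_num)

end Cfsg.Agent.H65.IMCSuz
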