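import Cfsg.Agent.H94.IMCLoc
import Cfsg.Agent.H870.IMLocal

/-!
# `IMC p G` from local data (helper65)

* `imc_of_cent_im` : an element `x` of order `p` with `IM p C(x)`, `p³ ∤ |C(x)|`, `p² ∣ |G|`;
* `imc_of_quot` : a `p`-group `D` with a character of `C(D) / D ∩ C(D)` of `p`-defect zero.
-/

set_option autoImplicit false

namespace Cfsg.Agent.H65.IMCTools

open Cfsg Subgroup Cfsg.Agent.H625.SylConst Cfsg.Agent.H33 Cfsg.Agent.H870.IMLocal Cfsg.Agent.H665.NoPQ

universe u

/-- **IMC from the centralizer of an element of prime order.** -/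
theorem imc_of_cent_im {G : Type u} [Group G] [Finite G] {p : ℕ} [hp : Fact p.Prime] {x : G} (hx : orderOf x = p)
    (h : IM p (centralizer ({x} : Set G))) (hc : ¬ p ^ 3 ∣ Nat.card (centralizer ({x} : Set G)))
    (hG : p ^ 2 ∣ Nat.card G) : IMC p G := by
  obtain ⟨D, hD⟩ : ∃ D : Subgroup G, D = zpowers x := ⟨_, rfl⟩
  rw [centralizer_zpowers, ← hD] at h hc
  obtain ⟨θ, hθ⟩ := h
  have hcard : Nat.card D = p := by rw [hD, Nat.card_zpowers, hx]
  have hDp : IsPGroup p D := IsPGroup.iff_card.2 ⟨1, by rw [hcard, pow_one]⟩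
  have hDC : D ≤ centralizer (D : Set G) := by
    rw [hD, ← centralizer_zpowers, zpowers_le, mem_centralizer_singleton_iff]
  refine H794.Imc.imc_of_local D hDp ?_ θ ?_ ?_
  · have h1 := D.card_mul_index
    rw [hcard] at h1
    rw [← h1, pow_two] at hG
    exact (Nat.mul_dvd_mul_iff_left hp.out.pos).1 hG
  · have h1 : (Nat.card (centralizer (D : Set G))).factorization p ≤ 2 := by
      by_contra hcon
      push Not at hcon
      exact hc ((hp.out.pow_dvd_iff_le_factorization Nat.card_pos.ne').2 hcon)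
    have h2 : 1 ≤ (charDegree (θ : centralizer (D : Set G) → ℂ)).factorization p :=
      (hp.out.dvd_iff_one_le_factorization (Cfsg.Agent.Blocks.Basic.charDegree_pos θ.2).ne').1 hθ
    have h3 : (Nat.card ↥(D ⊓ centralizer (D : Set G))).factorization p = 1 := by
      rw [inf_eq_left.2 hDC, hcard, hp.out.factorization_self]
    omega
  · intro g hg hk
    subst hD
    exact mem_sup_right (mem_centralizer_of_normalizer hx hg hk)

/-- **IMC from a character of defect zero of `C(D) / D`, `D` abelian.** -/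
theorem imc_of_quot {G : Type u} [Group G] [Finite G] {p : ℕ} [hp : Fact p.Prime] (D : Subgroup G)
    (hD : IsPGroup p D) (hidx : p ∣ D.index) (hDC : D ≤ centralizer (D : Set G))
    [(D.subgroupOf (centralizer (D : Set G))).Normal]
    (h : HasDZ p (centralizer (D : Set G) ⧸ D.subgroupOf (centralizer (D : Set G))))
    (hst : ∀ g : G, g ∈ normalizer (D : Set G) → (∃ k : ℕ, orderOf g = p ^ k) →
      g ∈ centralizer (D : Set G)) : IMC p G := by
  obtain ⟨χ, hχ⟩ := h
  set π := QuotientGroup.mk' (D.subgroupOf (centralizer (D : Set G))) with hπ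
  have hsurj : Function.Surjective π := QuotientGroup.mk'_surjective _
  refine H794.Imc.imc_of_local D hD hidx ⟨χ.1 ∘ π, Cfsg.Agent.Characters.Core.isIrr_comp π hsurj χ.2⟩ ?_
    (fun g hg hk => mem_sup_right (hst g hg hk))
  have h2 : charDegree (χ.1 ∘ π) = charDegree χ.1 := by
    unfold charDegree
    rw [Function.comp_apply, map_one]
  change _ ≤ (charDegree (χ.1 ∘ π)).factorization p + _
  have h3 := Subgroup.card_eq_card_quotient_mul_card_subgroup (D.subgroupOf (centralizer (D : Set G)))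
  have h4 : Nat.card (D.subgroupOf (centralizer (D : Set G))) = Nat.card ↥(D ⊓ centralizer (D : Set G)) := by
    rw [Nat.card_congr (subgroupOfEquivOfLe hDC).toEquiv, inf_eq_left.2 hDC]
  rw [h2, hχ, h3, h4, Nat.factorization_mul Nat.card_pos.ne' Nat.card_pos.ne', Finsupp.add_apply]

/-- a `p`-element normalising a nontrivial `p`-group centralises a nontrivial element of it -/
theorem exists_fixed {G : Type u} [Group G] [Finite G] {p : ℕ} [hp : Fact p.Prime] {D : Subgroup G}
    (hD : IsPGroup p D) (hD1 : D ≠ ⊥) {g : G} (hg : g ∈ normalizer (D : Set G)) (hk : ∃ k : ℕ, orderOf g = p ^ k) :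
    ∃ x ∈ D, x ≠ 1 ∧ g * x = x * g := by
  obtain ⟨k, hk⟩ := hk
  let φ : zpowers g →* MulAut D :=
    (D.normalizerMonoidHom).comp (Subgroup.inclusion (by rw [zpowers_le]; exact hg))
  let _ : MulAction (zpowers g) D := MulAction.compHom D φ
  have hact : ∀ x : D, (((⟨g, mem_zpowers g⟩ : zpowers g) • x : D) : G) = g * x * g⁻¹ := fun x => rfl
  have hz : IsPGroup p (zpowers g) := IsPGroup.iff_card.2 ⟨k, by rw [Nat.card_zpowers, hk]⟩
  have h1 := hz.card_modEq_card_fixedPoints D
  have h2 : p ∣ Nat.card D := by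
    obtain ⟨n, hn⟩ := IsPGroup.iff_card.1 hD
    rw [hn]
    refine dvd_pow_self p ?_
    rintro rfl
    rw [pow_zero] at hn
    exact hD1 (Subgroup.eq_bot_of_card_eq D hn)
  have h3 : p ∣ Nat.card (MulAction.fixedPoints (zpowers g) D) :=
    (Nat.modEq_zero_iff_dvd.1 (h1.symm.trans (Nat.modEq_zero_iff_dvd.2 h2)))
  have h4 : (1 : D) ∈ MulAction.fixedPoints (zpowers g) D := fun y => map_one (φ y)
  have h5 : 1 < Nat.card (MulAction.fixedPoints (zpowers g) D) := by
    have h6 : 0 < Nat.card (MulAction.fixedPoints (zpowers g) D) :=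
      have : Nonempty (MulAction.fixedPoints (zpowers g) D) := ⟨⟨1, h4⟩⟩
      Nat.card_pos
    exact lt_of_lt_of_le hp.out.one_lt (Nat.le_of_dvd h6 h3)
  have hnt := Finite.one_lt_card_iff_nontrivial.1 h5
  obtain ⟨⟨x, hx⟩, hne⟩ := exists_ne (⟨1, h4⟩ : MulAction.fixedPoints (zpowers g) D)
  refine ⟨x, x.2, fun h => hne (Subtype.ext (Subtype.ext h)), ?_⟩
  have h7 := congrArg Subtype.val (hx ⟨g, mem_zpowers g⟩)
  rw [hact] at h7
  exact mul_inv_eq_iff_eq_mul.1 h7

end Cfsg.Agent.H65.IMCTools
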